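import Cfsg.Agent.Coset.Fi22Out.Main

/-! The count of automorphisms modulo inner ones. -/

set_option autoImplicit false
set_option maxRecDepth 100000
set_option Elab.async false

namespace CfsgLib.Coset.Fi22Out

open CfsgLib.Coset CfsgLib.Coset.TransOut Fi22

theorem pre_spec {pre : List (Nat × Nat × Bool)}
    (h : (pre.all fun e => Nat.ble (Nat.add e.1 1) 9 && Nat.beq (pts.getD e.1 0) e.2.1) = true) :
    (∀ e ∈ pre, e.1 < (Lg).length) ∧
      ∀ e ∈ pre, ∃ h : e.2.1 < 3510, fl Lg e.1 = cls.dT ⟨e.2.1, h⟩ := by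
  constructor
  · intro e he
    have := List.all_eq_true.mp h e he
    rw [Bool.and_eq_true] at this
    rw [len_Lg]; exact Nat.ble_eq.mp this.1
  · intro e he
    have h' := List.all_eq_true.mp h e he
    rw [Bool.and_eq_true] at h'
    obtain ⟨hh, ee⟩ := fl_eq_dT (Nat.ble_eq.mp h'.1)
    have e2 : pts.getD e.1 0 = e.2.1 := Nat.eq_of_beq_eq_true h'.2
    refine ⟨e2 ▸ hh, ee.trans (congrArg cls.dT (Fin.ext e2))⟩

theorem preB_lt {pre : List (Nat × Nat × Bool)}
    (h : (pre.all fun e => Nat.ble (Nat.add e.1 1) 9 && Nat.beq (pts.getD e.1 0) e.2.1) = true) :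
    ∀ e ∈ pre, e.2.1 < 3510 := fun e he => ((pre_spec h).2 e he).1

/-- The base of a step. -/
def preBase (pre : List (Nat × Nat × Bool)) (h : ∀ e ∈ pre, e.2.1 < 3510) : List (Fin 3510) :=
  pre.attach.map fun e => ⟨e.1.2.1, h e.1 e.2⟩

theorem preBase_val (pre : List (Nat × Nat × Bool)) (h : ∀ e ∈ pre, e.2.1 < 3510) :
    (preBase pre h).map Fin.val = pre.map fun e => e.2.1 := by
  rw [preBase, List.map_map]
  exact List.attach_map_val (f := fun e : Nat × Nat × Bool => e.2.1)

/-- The generators in the order of the steps. -/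
def od : List Nat := [2, 4, 1, 0, 5, 7, 8, 6, 3]

/-- An automorphism can be made to fix the first generators. -/
def Norm (k : Nat) : Prop :=
  ∀ φ : MulAut Cfsg.Spor.Fi22, ∃ g : Cfsg.Spor.Fi22, ∀ l ∈ od.take k, g * φ (fl Lg l) * g⁻¹ = fl Lg l

theorem norm_succ {k l : Nat} {pre : List (Nat × Nat × Bool)} {p : Fin 3510} {m dm : Nat}
    {gens : List (List Nat)} {P Inv : Nat → Nat}
    (hN : Norm k) (hk : od.take (k + 1) = pre.map Prod.fst ++ [l]) (hk' : od.take k = pre.map Prod.fst)
    (hpre : (pre.all fun e => Nat.ble (Nat.add e.1 1) 9 && Nat.beq (pts.getD e.1 0) e.2.1) = true)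
    (hl : l < 9) (hp : pts.getD l 0 = p.val)
    (hpat : pattOK Top.Tb pre p.val = true) (hgl : checkLetters 9 gens = true)
    (hgf : checkFix Top.Tb (pre.map fun e => e.2.1) gens = true)
    (horb : checkOrbit Top.Tb p m dm gens P Inv = true)
    (hcand : checkCand Top.Tb 3510 12 pre m P Inv = true) : Norm (k + 1) := by
  intro φ
  have := card_le.1
  obtain ⟨g, hg⟩ := hN φ
  obtain ⟨hlt, hd⟩ := pre_spec hpre
  let ψ : MulAut Cfsg.Spor.Fi22 := MulAut.conj g * φ
  have hψ : ∀ x, ψ x = g * φ x * g⁻¹ := fun x => rfl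
  obtain ⟨hh, e⟩ := fl_eq_dT hl
  have hpd : fl Lg l = cls.dT p := e.trans (congrArg cls.dT (Fin.ext hp))
  have hb := preBase_val pre (preB_lt hpre)
  obtain ⟨g', hg', hgl'⟩ := cls.step hlt hd hb hpd hpat (len_Lg ▸ hgl) (hb.symm ▸ hgf) horb hcand ψ
    (fun e he => by rw [hψ]; exact hg e.1 (hk' ▸ List.mem_map.mpr ⟨e, he, rfl⟩))
    (isConj_fl ψ hl)
  refine ⟨g' * g, fun x hx => ?_⟩
  have hx' : x ∈ pre.map Prod.fst ++ [l] := hk ▸ hx
  have e2 : g' * g * φ (fl Lg x) * (g' * g)⁻¹ = g' * ψ (fl Lg x) * g'⁻¹ := by rw [hψ]; group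
  rw [e2]
  rcases List.mem_append.mp hx' with h | h
  · obtain ⟨e', he', rfl⟩ := List.mem_map.mp h
    exact hg' e' he'
  · rw [List.mem_singleton.mp h]; exact hgl'

theorem norm8 : Norm 8 := by
  have h0 : Norm 0 := fun φ => ⟨1, by simp⟩
  have h1 := norm_succ (l := 2) (pre := pre0) (p := ⟨6, by decide⟩) h0 rfl rfl (by decide) (by decide)
    rfl patt0 lett0 fix0 orb0 cand0
  have h2 := norm_succ (l := 4) (pre := pre1) (p := ⟨40, by decide⟩) h1 rfl rfl (by decide) (by decide)
    rfl patt1 lett1 fix1 orb1 cand1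
  have h3 := norm_succ (l := 1) (pre := pre2) (p := ⟨2, by decide⟩) h2 rfl rfl (by decide) (by decide)
    rfl patt2 lett2 fix2 orb2 cand2
  have h4 := norm_succ (l := 0) (pre := pre3) (p := ⟨0, by decide⟩) h3 rfl rfl (by decide) (by decide)
    rfl patt3 lett3 fix3 orb3 cand3
  have h5 := norm_succ (l := 5) (pre := pre4) (p := ⟨88, by decide⟩) h4 rfl rfl (by decide) (by decide)
    rfl patt4 lett4 fix4 orb4 cand4
  have h6 := norm_succ (l := 7) (pre := pre5) (p := ⟨43, by decide⟩) h5 rfl rfl (by decide) (by decide)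
    rfl patt5 lett5 fix5 orb5 cand5
  have h7 := norm_succ (l := 8) (pre := pre6) (p := ⟨92, by decide⟩) h6 rfl rfl (by decide) (by decide)
    rfl patt6 lett6 fix6 orb6 cand6
  exact norm_succ (l := 6) (pre := pre7) (p := ⟨154, by decide⟩) h7 rfl rfl (by decide) (by decide)
    rfl patt7 lett7 fix7 orb7 cand7

/-- The chain of base points. -/
def bs : List (Fin 3510) := [⟨6, by decide⟩, ⟨40, by decide⟩, ⟨2, by decide⟩, ⟨0, by decide⟩,
  ⟨88, by decide⟩, ⟨43, by decide⟩, ⟨92, by decide⟩, ⟨154, by decide⟩]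

theorem stab_trivial : baseStab ρ bs = ⊥ := by
  have := card_le.1
  have h8 : Nat.card (baseStab ρ bs) ≤ Nat.card (baseStab ρ bs) := le_rfl
  have h7 := orbit_step matches_ρ (base := bs.take 7) (β := ⟨154, by decide⟩) (m := 1) (dm := 0)
    (gens := gens7) (P := P7) (Inv := Inv7) orb7 lett7 fix7 h8
  have h6 := orbit_step matches_ρ (base := bs.take 6) (β := ⟨92, by decide⟩) (m := 4) (dm := 2)
    (gens := gens6) (P := P6) (Inv := Inv6) orb6 lett6 fix6 h7
  have h5 := orbit_step matches_ρ (base := bs.take 5) (β := ⟨43, by decide⟩) (m := 6) (dm := 3)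
    (gens := gens5) (P := P5) (Inv := Inv5) orb5 lett5 fix5 h6
  have h4 := orbit_step matches_ρ (base := bs.take 4) (β := ⟨88, by decide⟩) (m := 16) (dm := 4)
    (gens := gens4) (P := P4) (Inv := Inv4) orb4 lett4 fix4 h5
  have h3 := orbit_step matches_ρ (base := bs.take 3) (β := ⟨0, by decide⟩) (m := 135) (dm := 8)
    (gens := gens3) (P := P3) (Inv := Inv3) orb3 lett3 fix3 h4
  have h2 := orbit_step matches_ρ (base := bs.take 2) (β := ⟨2, by decide⟩) (m := 512) (dm := 9)
    (gens := gens2) (P := P2) (Inv := Inv2) orb2 lett2 fix2 h3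
  have h1 := orbit_step matches_ρ (base := bs.take 1) (β := ⟨40, by decide⟩) (m := 693) (dm := 10)
    (gens := gens1) (P := P1) (Inv := Inv1) orb1 lett1 fix1 h2
  have h0 := orbit_step matches_ρ (base := bs.take 0) (β := ⟨6, by decide⟩) (m := 3510) (dm := 12)
    (gens := gens0) (P := P0) (Inv := Inv0) orb0 lett0 fix0 h1
  have he : Nat.card (baseStab ρ (bs.take 0)) = Nat.card Cfsg.Spor.Fi22 := by
    simp [baseStab]
  rw [he, card_and_injective.1] at h0
  exact Subgroup.eq_bot_of_card_le _ (by omega)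

/-- The images of the generators under the outer automorphism. -/
def imgW : List (List Nat) := [[0], [1], [2], altW, [4], [5], [6], [7], [8]]

/-- The images of the generators. -/
noncomputable def img : List Cfsg.Spor.Fi22 := imgW.map (ev Lg)

theorem ev_img : ∀ w : List Nat, (∀ l ∈ w, l < 9) →
    ev img w = ev Lg (w.flatMap fun l => imgW.getD l [])
  | [], _ => by simp
  | l :: w, h => by
    have hl : l < imgW.length := h l (by simp)
    have hl' : l < img.length := by rw [img, List.length_map]; exact hl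
    rw [List.flatMap_cons, ev_cons, ev_append, ev_img w fun x hx => h x (by simp [hx]),
      List.getD_eq_getElem _ _ hl]
    congr 1
    rw [fl, List.getD_eq_getElem _ _ hl']
    simp [img]

theorem img_check : rels.all (fun w => checkLetters 9 [w] &&
    checkLetters 9 [w.flatMap fun l => imgW.getD l []] &&
    allList (fun b => Nat.beq (follow (tget Top.Tb) b (w.flatMap fun l => imgW.getD l []))
      (follow (tget Top.Tb) b [])) (U62.base.map Fin.val)) = true := by
  decide +kernel

theorem img_rels : ∀ w ∈ pres.rels, ev img w = 1 := by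
  rw [rels_eq]
  intro w hw
  have h := List.all_eq_true.mp img_check w hw
  simp only [Bool.and_eq_true] at h
  rw [ev_img w (letters_lt h.1.1 w (by simp)), ← ev_nil (L := Lg)]
  exact U62.eq_of_base h.1.2 (by decide +kernel) h.2

/-- The outer automorphism as a homomorphism. -/
noncomputable def twist : Cfsg.Spor.Fi22 →* Cfsg.Spor.Fi22 := pres.hom pres_ok img_rels

theorem twist_fl {l : Nat} (hl : l < 9) : twist (fl Lg l) = ev Lg (imgW.getD l []) := by
  obtain ⟨x, rfl⟩ := hix l hl
  show pres.hom pres_ok img_rels (fl pres.gens (pres.ix x)) = _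
  rw [pres.hom_fl pres_ok]
  have hl' : pres.ix x < img.length := by rw [img, List.length_map]; exact hl
  rw [fl, List.getD_eq_getElem _ _ hl', List.getD_eq_getElem _ _ (show ix x < imgW.length from hl)]
  simp [img]

theorem twist_bijective : Function.Bijective twist := by
  have := card_le.1
  have hinj : Function.Injective twist := by
    rcases isSimple.eq_bot_or_eq_top_of_normal twist.ker inferInstance with h | h
    · exact (MonoidHom.ker_eq_bot_iff twist).mp h
    · exfalso
      have h0 : twist (fl Lg 0) = 1 := MonoidHom.mem_ker.mp (h ▸ Subgroup.mem_top _)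
      rw [twist_fl (by decide)] at h0
      have h2 := cls.order_t
      rw [show ev Lg [0] = ev Lg (imgW.getD 0 []) from rfl, h0, orderOf_one] at h2
      exact absurd h2 (by norm_num)
  exact ⟨hinj, Finite.surjective_of_injective hinj⟩

/-- The outer automorphism. -/
noncomputable def outer : MulAut Cfsg.Spor.Fi22 := MulEquiv.ofBijective twist twist_bijective

theorem ext_gens {α β : MulAut Cfsg.Spor.Fi22} (h : ∀ l < 9, α (fl Lg l) = β (fl Lg l)) : α = β := by
  refine MulEquiv.ext fun x => ?_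
  have hx : x ∈ Subgroup.closure {y | y ∈ Lg} := closure_Lg ▸ Subgroup.mem_top x
  induction hx using Subgroup.closure_induction with
  | mem y hy =>
    obtain ⟨l, hl, rfl⟩ := List.getElem_of_mem hy
    have hl9 : l < 9 := hl
    have := h l hl9
    rwa [fl, List.getD_eq_getElem _ _ hl] at this
  | one => simp
  | mul a b _ _ ha hb => rw [map_mul, map_mul, ha, hb]
  | inv a _ ha => rw [map_inv, map_inv, ha]

theorem od_lt : ∀ l < 9, l ∈ od.take 8 ∨ l = 3 := by decide

theorem two_classes (φ : MulAut Cfsg.Spor.Fi22) :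
    φ ∈ Cfsg.Inn Cfsg.Spor.Fi22 ∨ φ * outer⁻¹ ∈ Cfsg.Inn Cfsg.Spor.Fi22 := by
  obtain ⟨g, hg⟩ := norm8 φ
  obtain ⟨hlt, hd⟩ := pre_spec (pre := pre8) (by decide)
  let ψ : MulAut Cfsg.Spor.Fi22 := MulAut.conj g * φ
  have hψ : ∀ x, ψ x = g * φ x * g⁻¹ := fun x => rfl
  have hfix : ∀ e ∈ pre8, ψ (fl Lg e.1) = fl Lg e.1 := fun e he =>
    hg e.1 (by
      have : ∀ e ∈ pre8, e.1 ∈ od.take 8 := by decide
      exact this e he)
  obtain ⟨hh, e3⟩ := fl_eq_dT (l := 3) (by decide)
  obtain ⟨c, hc, hcl, hce⟩ := cls.last_step (p := ⟨16, by decide⟩) hlt hd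
    (e3.trans (congrArg cls.dT (Fin.ext rfl))) patt8 cand8 ψ hfix (isConj_fl ψ (by decide))
  simp only [lastC, List.mem_cons, List.not_mem_nil, or_false] at hc
  rcases hc with rfl | rfl
  · left
    have : ψ = 1 := ext_gens fun l hl => by
      rcases od_lt l hl with h | rfl
      · rw [hψ]; exact hg l h
      · rw [hce, e3]; rfl
    refine ⟨g⁻¹, ?_⟩
    rw [map_inv]
    exact inv_eq_of_mul_eq_one_right this
  · right
    have : ψ = outer := ext_gens fun l hl => by
      show ψ (fl Lg l) = twist (fl Lg l)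
      rw [twist_fl hl]
      rcases od_lt l hl with h | rfl
      · rw [hψ, hg l h]
        have : ∀ l ∈ od.take 8, imgW.getD l [] = [l] := by decide
        rw [this l h, ev_cons, ev_nil, mul_one]
      · rw [hce, ← altW_eq]; rfl
    refine ⟨g⁻¹, ?_⟩
    rw [← this, map_inv]
    simp [ψ, mul_inv_rev]

theorem outer_not_inner : outer ∉ Cfsg.Inn Cfsg.Spor.Fi22 := by
  rintro ⟨g, hg⟩
  have hx : ∀ x, g * x * g⁻¹ = twist x := fun x => DFunLike.congr_fun hg x
  have hg1 : g = 1 := by
    have hmem : g ∈ baseStab ρ bs := by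
      refine (mem_foldl_inf bs ⊤).mpr ⟨trivial, fun b hb => mem_pstab.mpr ?_⟩
      have hl : ∀ b ∈ bs, ∃ l ∈ od.take 8, pts.getD l 0 = b.val := by decide
      obtain ⟨l, hl', hlb⟩ := hl b hb
      have hl9 : l < 9 := by
        have : ∀ l ∈ od.take 8, l < 9 := by decide
        exact this l hl'
      obtain ⟨h, e⟩ := fl_eq_dT hl9
      have e' : fl Lg l = cls.dT b := e.trans (congrArg cls.dT (Fin.ext hlb))
      refine (cls.comm_dT_iff g b).mp ?_
      rw [← e', ← mul_inv_eq_iff_eq_mul, hx, twist_fl hl9]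
      have : ∀ l ∈ od.take 8, imgW.getD l [] = [l] := by decide
      rw [this l hl', ev_cons, ev_nil, mul_one]
    rwa [stab_trivial, Subgroup.mem_bot] at hmem
  have h3 := hx (fl Lg 3)
  rw [hg1, one_mul, inv_one, mul_one, twist_fl (by decide)] at h3
  obtain ⟨h, e⟩ := fl_eq_dT (l := 3) (by decide)
  rw [e, show imgW.getD 3 [] = altW from rfl, altW_eq] at h3
  have := congrArg Fin.val (cls.dT_inj h3)
  simp [pts] at this

theorem card_out : Nat.card (Cfsg.Out Cfsg.Spor.Fi22) = 2 := by
  show (Cfsg.Inn Cfsg.Spor.Fi22).index = 2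
  rw [Subgroup.index_eq_two_iff]
  refine ⟨outer, fun b => ?_⟩
  by_cases hb : b ∈ Cfsg.Inn Cfsg.Spor.Fi22
  · exact Or.inr ⟨hb, fun h => outer_not_inner (by simpa using mul_mem (inv_mem hb) h)⟩
  · refine Or.inl ⟨?_, hb⟩
    rcases two_classes (b * outer) with h | h
    · exact h
    · exact absurd (by simpa using h) hb

end CfsgLib.Coset.Fi22Out
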