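import Cfsg.Agent.Coset.Fi22Out.S1
import Cfsg.Agent.Coset.Fi22.TopData

/-! Checks on one step. -/

set_option autoImplicit false
set_option maxRecDepth 100000
set_option Elab.async false

namespace CfsgLib.Coset.Fi22Out

open CfsgLib.Coset CfsgLib.Coset.TransOut

theorem patt1 : pattOK Fi22.Top.Tb pre1 40 = true := by decide +kernel

theorem cand1 : checkCand Fi22.Top.Tb 3510 12 pre1 693 P1 Inv1 = true := by decide +kernel

theorem orb1 : checkOrbit Fi22.Top.Tb 40 693 10 gens1 P1 Inv1 = true := by decide +kernel

theorem fix1 : checkFix Fi22.Top.Tb (pre1.map fun e => e.2.1) gens1 = true := by decide +kernel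

theorem lett1 : checkLetters 9 gens1 = true := by decide +kernel

end CfsgLib.Coset.Fi22Out
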