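import Cfsg.Agent.Coset.Fi22Out.S4
import Cfsg.Agent.Coset.Fi22.TopData

/-! Checks on one step. -/

set_option autoImplicit false
set_option maxRecDepth 100000
set_option Elab.async false

namespace CfsgLib.Coset.Fi22Out

open CfsgLib.Coset CfsgLib.Coset.TransOut

theorem patt4 : pattOK Fi22.Top.Tb pre4 88 = true := by decide +kernel

theorem cand4 : checkCand Fi22.Top.Tb 3510 12 pre4 16 P4 Inv4 = true := by decide +kernel

theorem orb4 : checkOrbit Fi22.Top.Tb 88 16 4 gens4 P4 Inv4 = true := by decide +kernel

theorem fix4 : checkFix Fi22.Top.Tb (pre4.map fun e => e.2.1) gens4 = true := by decide +kernel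

theorem lett4 : checkLetters 9 gens4 = true := by decide +kernel

end CfsgLib.Coset.Fi22Out
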