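import Cfsg.Agent.Coset.Fi22Out.S6
import Cfsg.Agent.Coset.Fi22.TopData

/-! Checks on one step. -/

set_option autoImplicit false
set_option maxRecDepth 100000
set_option Elab.async false

namespace CfsgLib.Coset.Fi22Out

open CfsgLib.Coset CfsgLib.Coset.TransOut

theorem patt6 : pattOK Fi22.Top.Tb pre6 92 = true := by decide +kernel

theorem cand6 : checkCand Fi22.Top.Tb 3510 12 pre6 4 P6 Inv6 = true := by decide +kernel

theorem orb6 : checkOrbit Fi22.Top.Tb 92 4 2 gens6 P6 Inv6 = true := by decide +kernel

theorem fix6 : checkFix Fi22.Top.Tb (pre6.map fun e => e.2.1) gens6 = true := by decide +kernel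

theorem lett6 : checkLetters 9 gens6 = true := by decide +kernel

end CfsgLib.Coset.Fi22Out
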