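import Cfsg.Agent.Coset.Fi22Out.S8
import Cfsg.Agent.Coset.Fi22.TopData

/-! Checks on one step. -/

set_option autoImplicit false
set_option maxRecDepth 100000
set_option Elab.async false

namespace CfsgLib.Coset.Fi22Out

open CfsgLib.Coset CfsgLib.Coset.TransOut

theorem patt8 : pattOK Fi22.Top.Tb pre8 16 = true := by decide +kernel

theorem cand8 : checkCandList Fi22.Top.Tb 3510 12 pre8 lastC = true := by decide +kernel

end CfsgLib.Coset.Fi22Out
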