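import Cfsg.Agent.Coset.Fi22Out.ChkU
import Cfsg.Agent.Coset.Fi22Out.Chk0
import Cfsg.Agent.Coset.Fi22Out.Chk1
import Cfsg.Agent.Coset.Fi22Out.Chk2
import Cfsg.Agent.Coset.Fi22Out.Chk3
import Cfsg.Agent.Coset.Fi22Out.Chk4
import Cfsg.Agent.Coset.Fi22Out.Chk5
import Cfsg.Agent.Coset.Fi22Out.Chk6
import Cfsg.Agent.Coset.Fi22Out.Chk7
import Cfsg.Agent.Coset.Fi22Out.Chk8
import Cfsg.Agent.Coset.U62.Cover

/-! The outer automorphism group of the presented group has order two. -/

set_option autoImplicit false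
set_option maxRecDepth 100000
set_option Elab.async false

namespace CfsgLib.Coset.Fi22Out

open CfsgLib.Coset CfsgLib.Coset.TransOut Fi22

/-- The base point. -/
def o : Fin 3510 := ⟨0, by decide⟩

theorem cls : Class Lg ρ Top.Tb [0] o where
  hm := matches_ρ
  inj := card_and_injective.2
  ho := rfl
  hz := by decide +kernel
  sq := sq_all
  order_t := orderOf_t
  cent := centralizer_t.trans index_and_eq.2
  trans := transitive

/-- The point of a generator. -/
def pt (l : Nat) (h : pts.getD l 0 < 3510 := by decide +kernel) : Fin 3510 := ⟨pts.getD l 0, h⟩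

theorem pts_check : (List.range 9).all (fun l =>
    Nat.ble (Nat.add (pts.getD l 0) 1) 3510 && good Top.Tb Top.Par 9 (pts.getD l 0) &&
    checkLetters 9 [tw Top.Par [0] (pts.getD l 0)] &&
    allList (fun b => Nat.beq (follow (tget Top.Tb) b [l])
      (follow (tget Top.Tb) b (tw Top.Par [0] (pts.getD l 0)))) (U62.base.map Fin.val)) = true := by
  decide +kernel

theorem letters_single {l : Nat} (h : l < 9) : checkLetters 9 [[l]] = true := by
  simp [checkLetters, allList_iff, Nat.ble_eq]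
  omega

theorem fl_eq_dT {l : Nat} (hl : l < 9) :
    ∃ h : pts.getD l 0 < 3510, fl Lg l = cls.dT ⟨pts.getD l 0, h⟩ := by
  have h := List.all_eq_true.mp pts_check l (List.mem_range.mpr hl)
  simp only [Bool.and_eq_true] at h
  obtain ⟨⟨⟨h1, h2⟩, h3⟩, h4⟩ := h
  refine ⟨Nat.ble_eq.mp h1, ?_⟩
  rw [cls.dT_eq_ev _ (len_Lg ▸ h2), ← U62.eq_of_base (letters_single hl) h3 h4, ev_cons, ev_nil,
    mul_one]

/-- The point of the outer image of the generator `d`. -/
def altW : List Nat :=
  [3, 7, 8, 3, 4, 5, 2, 3, 4, 1, 2, 3, 7, 6, 5, 4, 3, 2, 1, 0, 1, 2, 3, 4, 5, 6, 7, 3, 2, 1, 4, 3, 2, 5, 4, 3, 8, 7, 3]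

theorem alt_check : good Top.Tb Top.Par 9 827 = true ∧
    checkLetters 9 [tw Top.Par [0] 827] = true ∧ checkLetters 9 [altW] = true ∧
    allList (fun b => Nat.beq (follow (tget Top.Tb) b altW)
      (follow (tget Top.Tb) b (tw Top.Par [0] 827))) (U62.base.map Fin.val) = true := by
  decide +kernel

theorem altW_eq : ev Lg altW = cls.dT ⟨827, by decide⟩ := by
  rw [cls.dT_eq_ev _ (len_Lg ▸ alt_check.1)]
  exact U62.eq_of_base alt_check.2.2.1 alt_check.2.1 alt_check.2.2.2

theorem u_facts : checkLetters 9 [uw] = true ∧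
    checkLetters 9 [(List.replicate 11 uw).flatten] = true ∧
    checkLetters 9 [uw ++ [0]] = true ∧ checkLetters 9 [[0] ++ uw] = true ∧
    allList (fun b => Nat.beq (follow (tget Top.Tb) b (List.replicate 11 uw).flatten)
      (follow (tget Top.Tb) b [])) (U62.base.map Fin.val) = true ∧
    allList (fun b => Nat.beq (follow (tget Top.Tb) b (uw ++ [0]))
      (follow (tget Top.Tb) b ([0] ++ uw))) (U62.base.map Fin.val) = true ∧
    Nat.beq (follow (tget Top.Tb) 1 uw) 1 = false := by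
  decide +kernel

theorem uw_lt : ∀ l ∈ uw, l < (Lg).length := letters_lt (len_Lg ▸ u_facts.1) uw (by simp)

theorem u_pow : ev Lg uw ^ 11 = 1 := by
  rw [pow_ev, ← ev_nil (L := Lg)]
  exact U62.eq_of_base u_facts.2.1 (by decide +kernel) u_facts.2.2.2.2.1

theorem u_comm : ev Lg uw * ev Lg [0] = ev Lg [0] * ev Lg uw := by
  rw [← ev_append, ← ev_append]
  exact U62.eq_of_base u_facts.2.2.1 u_facts.2.2.2.1 u_facts.2.2.2.2.2.1

theorem orderOf_u : orderOf (ev Lg uw) = 11 := by
  have : Fact (Nat.Prime 11) := ⟨by norm_num⟩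
  refine orderOf_eq_prime u_pow fun h => ?_
  have h1 := matches_ρ.follow_eq uw (1 : Fin 3510) uw_lt
  simp only [h, map_one, inv_one, Equiv.Perm.coe_one, id_eq] at h1
  have h2 := u_facts.2.2.2.2.2.2
  rw [show ((1 : Fin 3510) : Nat) = 1 from rfl] at h1
  rw [← h1] at h2
  simp at h2

theorem e8_check : e8.all (fun i => targets.contains i && Nat.ble (Nat.add i 1) 3510 &&
      good Top.Tb Top.Par 9 i) = true ∧
    checkLetters 9 [e8.flatMap (tw Top.Par [0])] = true ∧
    checkLetters 9 [Top.subs.getD 8 []] = true ∧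
    allList (fun b => Nat.beq (follow (tget Top.Tb) b (Top.subs.getD 8 []))
      (follow (tget Top.Tb) b (e8.flatMap (tw Top.Par [0])))) (U62.base.map Fin.val) = true ∧
    [0, 2, 3, 4, 5, 6, 7, 8].all (fun l => targets.contains (pts.getD l 0)) = true := by
  decide +kernel

theorem gen_center {g : Cfsg.Spor.Fi22} (hgo : ρ g o = o)
    (hg : ∀ t ∈ targets, ∀ h : t < 3510, ρ g ⟨t, h⟩ = ⟨t, h⟩) : g = 1 ∨ g = ev Lg [0] := by
  obtain ⟨he, hl1, hl2, heq, hlet⟩ := e8_check
  have hletter : ∀ l ∈ [0, 2, 3, 4, 5, 6, 7, 8], Commute g (fl Lg l) := by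
    intro l hl
    have hl9 : l < 9 := by
      simp only [List.mem_cons, List.not_mem_nil, or_false] at hl
      omega
    obtain ⟨h, e⟩ := fl_eq_dT hl9
    show g * fl Lg l = fl Lg l * g
    rw [e, cls.comm_dT_iff]
    exact hg _ (by simpa using List.all_eq_true.mp hlet l hl) h
  have he8 : Commute g (ev Lg (Top.subs.getD 8 [])) := by
    rw [U62.eq_of_base hl2 hl1 heq]
    have : ∀ is : List Nat, (∀ i ∈ is, i ∈ e8) → Commute g (ev Lg (is.flatMap (tw Top.Par [0]))) := by
      intro is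
      induction is with
      | nil => intro _; simp
      | cons i is ih =>
        intro hi
        have h := List.all_eq_true.mp he i (hi i (by simp))
        simp only [Bool.and_eq_true] at h
        obtain ⟨⟨h1, h2⟩, h3⟩ := h
        rw [List.flatMap_cons, ev_append, ← cls.dT_eq_ev ⟨i, Nat.ble_eq.mp h2⟩ (len_Lg ▸ h3)]
        refine Commute.mul_right ((cls.comm_dT_iff g _).mpr ?_) (ih fun j hj => hi j (by simp [hj]))
        exact hg i (by simpa using h1) _
    exact this e8 fun _ h => h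
  have hH : ∀ x ∈ H, g * x = x * g := by
    intro x hx
    have : H ≤ Subgroup.centralizer ({g} : Set Cfsg.Spor.Fi22) := by
      refine (Subgroup.closure_le _).mpr ?_
      rintro _ ⟨w, hw, rfl⟩
      rw [SetLike.mem_coe, Subgroup.mem_centralizer_singleton_iff]
      simp only [Top.subs, Set.mem_setOf_eq, List.mem_cons, List.not_mem_nil, or_false] at hw
      rcases hw with rfl | rfl | rfl | rfl | rfl | rfl | rfl | rfl | rfl
      all_goals first
        | exact he8.symm.eq
        | (rw [ev_cons, ev_nil, mul_one]; exact (hletter _ (by simp)).symm.eq)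
    exact (Subgroup.mem_centralizer_singleton_iff.mp (this hx)).symm
  have hgH : g ∈ H := by
    rw [index_and_eq.2]
    exact hgo
  have hc : (⟨g, hgH⟩ : H) ∈ Subgroup.center H :=
    Subgroup.mem_center_iff.mpr fun x => Subtype.ext (hH x.1 x.2).symm
  rw [U62.center_eq, U62.ker_eq] at hc
  obtain ⟨i, hi⟩ := Subgroup.mem_zpowers_iff.mp hc
  have ht : (U62.z : Cfsg.Spor.Fi22) ^ i = g := by
    rw [← Subgroup.coe_zpow, hi]
  rw [t_eq] at ht
  have h2 : (ev Lg [0]) ^ (2 : ℤ) = 1 := by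
    rw [zpow_two, ev_cons, ev_nil, mul_one, sq_all]
  rcases Int.even_or_odd i with ⟨j, rfl⟩ | ⟨j, rfl⟩
  · left
    rw [← ht, ← two_mul, zpow_mul, show t = ev Lg [0] from rfl, h2, one_zpow]
  · right
    rw [← ht, zpow_add, zpow_mul, show t = ev Lg [0] from rfl, h2, one_zpow, one_mul, zpow_one]

theorem card_sq : ¬ 11 ^ 2 ∣ Nat.card Cfsg.Spor.Fi22 := by
  rw [card_and_injective.1]; norm_num

/-- Every automorphism preserves the class. -/
theorem isConj_aut (φ : MulAut Cfsg.Spor.Fi22) : IsConj (ev Lg [0]) (φ (ev Lg [0])) := by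
  have := card_le.1
  have : Fact (Nat.Prime 11) := ⟨by norm_num⟩
  obtain ⟨g, hg⟩ := cls.exists_commute orderOf_u card_sq u_comm φ
  have hfix : ∀ {x : Cfsg.Spor.Fi22}, x * x = 1 → x ≠ 1 → ρ x o = o →
      x * ev Lg uw = ev Lg uw * x → x = ev Lg [0] :=
    fun h1 h2 h3 h4 => cls.eq_t_of_fix (k := 9) (pr := 11) len_Lg.symm uw_lt ⟨5, rfl⟩ u_pow
      (fun a ha h => Nat.eq_zero_of_dvd_of_lt (orderOf_u ▸ orderOf_dvd_of_pow_eq_one h) ha)
      u_comm cycles_ok seps_ok dag_ok (by decide) (by decide +kernel) (by decide +kernel)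
      (fun y hy hy' => gen_center hy hy') h1 h2 h3 h4
  have hzero : ∀ f ∈ fU, ∀ h : f < 3510, (⟨f, h⟩ : Fin 3510) = o := by
    intro f hf h
    simp only [fU, List.mem_cons, List.not_mem_nil, or_false] at hf
    subst hf; rfl
  have ht : φ (ev Lg [0]) * φ (ev Lg [0]) = 1 := by
    rw [← map_mul, ev_cons, ev_nil, mul_one, sq_all, map_one]
  have ht1 : φ (ev Lg [0]) ≠ 1 := by
    intro h
    have h2 : orderOf (ev Lg [0]) = 2 := cls.order_t
    rw [← map_one φ] at h
    rw [φ.injective h, orderOf_one] at h2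
    exact absurd h2 (by norm_num)
  have hc := cls.isConj_of_commute uw_lt fixU_ok
    (fun x _ hF => ⟨0, by simp [fU], by decide, Fin.ext (by simpa [fU] using hF 0 (by simp [fU]) (by decide))⟩)
    (fun f hf h => ⟨1, by rw [hzero f hf h]; simp, by simp⟩)
    (fun f hf h => by rw [hzero f hf h]; exact (cls.commute_t_iff _).mp u_comm)
    hfix (x := g * φ (ev Lg [0]) * g⁻¹)
    (by calc g * φ (ev Lg [0]) * g⁻¹ * (g * φ (ev Lg [0]) * g⁻¹)
            = g * (φ (ev Lg [0]) * φ (ev Lg [0])) * g⁻¹ := by group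
          _ = 1 := by rw [ht]; group)
    (fun h => ht1 (by
      calc φ (ev Lg [0]) = g⁻¹ * (g * φ (ev Lg [0]) * g⁻¹) * g := by group
        _ = 1 := by rw [h]; group)) hg
  exact hc.trans (isConj_iff.mpr ⟨g⁻¹, by group⟩)

theorem isConj_fl (φ : MulAut Cfsg.Spor.Fi22) {l : Nat} (hl : l < 9) :
    IsConj (ev Lg [0]) (φ (fl Lg l)) := by
  obtain ⟨h, e⟩ := fl_eq_dT hl
  exact cls.isConj_image (isConj_aut φ) (e ▸ cls.isConj_dT _)

end CfsgLib.Coset.Fi22Out
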