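import Cfsg.Agent.Coset.Fi22Out.Data
import Cfsg.Agent.Coset.Fi22.ThreeTransp

/-! Checks on the centraliser of an element of prime order. -/

set_option autoImplicit false
set_option maxRecDepth 100000
set_option Elab.async false

namespace CfsgLib.Coset.Fi22Out

open CfsgLib.Coset.TransOut

theorem fixU_ok : checkFixU Fi22.Top.Tb uw 3510 12 fU = true := by decide +kernel

theorem cycles_ok : checkCycles Fi22.Top.Tb [0] uw 3510 12 63 6 11 C CI = true := by decide +kernel

theorem seps_ok : checkSeps Fi22.Top.Tb Fi22.Top.Par [0] 9 3510 12 63 6 C 11 4 cert = true := by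
  decide +kernel

theorem dag_ok : checkDag Fi22.Top.Tb Fi22.Top.Par [0] 9 3510 dag (0 :: (List.range 11).map (cy C 11 4))
    targets = true := by decide +kernel

end CfsgLib.Coset.Fi22Out
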