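import Cfsg.Agent.Coset.Fi22Out.Out
import Cfsg.Agent.Spor3T.M22AutWitness

/-! A hexad of the presented group on which the outer automorphism is odd. -/

set_option autoImplicit false
set_option maxRecDepth 100000
set_option Elab.async false

namespace CfsgLib.Coset.Fi22Out

open CfsgLib.Coset Fi22 CfsgLib.ThreeT.Prod

/-- A word fixing three members and moving a fourth. -/
def hexK : List Nat := [7, 8, 1, 2, 3, 7, 5, 4, 3, 2, 1, 0, 1, 2, 3, 4, 5, 7, 3, 2, 1, 8, 7, 8, 3, 7, 2, 3, 4, 1, 2, 3, 7, 5, 4, 3, 2, 1, 0, 1, 2, 3, 4, 5, 7, 3, 2, 1, 4, 3, 2, 7, 3, 8, 3, 7, 5, 4, 3, 1, 2, 0, 1, 0, 1, 0, 2, 1, 3, 4, 5, 7, 3]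

/-- The moved member. -/
def hexY : List Nat := hexK ++ [6] ++ hexK.reverse

/-- A word under the outer automorphism. -/
def subW (w : List Nat) : List Nat := w.flatMap fun l => imgW.getD l []

/-- The words of the hexad outside the pair. -/
def hexW : List (List Nat) := [[4], [6], hexY, subW hexY]

/-- The action of a word on the base. -/
noncomputable def sameB (u v : List Nat) : Bool :=
  allList (fun b => Nat.beq (follow (tget Top.Tb) b u) (follow (tget Top.Tb) b v)) (U62.base.map Fin.val)

theorem eq_of_sameB {u v : List Nat} (hu : checkLetters 9 [u] = true) (hv : checkLetters 9 [v] = true)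
    (h : sameB u v = true) : ev Lg u = ev Lg v := U62.eq_of_base hu hv h

theorem hex_letters : checkLetters 9 [hexK, hexK.reverse, hexY, subW hexY] = true := by decide +kernel

theorem hex_comm : sameB (hexK ++ [0]) ([0] ++ hexK) = true ∧ sameB (hexK ++ [2]) ([2] ++ hexK) = true ∧
    sameB (hexK ++ [4]) ([4] ++ hexK) = true ∧ sameB (hexK ++ hexK.reverse) [] = true := by decide +kernel

theorem hex_pairwise : ([[0], [2]] ++ hexW).all (fun u => ([[0], [2]] ++ hexW).all fun v =>
    checkLetters 9 [u ++ v] && sameB (u ++ v) (v ++ u)) = true := by decide +kernel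

theorem hex_distinct : (List.range 6).all (fun i => (List.range 6).all fun j =>
    Nat.beq i j || !(sameB (([[0], [2]] ++ hexW).getD i []) (([[0], [2]] ++ hexW).getD j []))) = true := by
  decide +kernel

theorem hex_prod : checkLetters 9 [[4] ++ [6] ++ hexY ++ subW hexY] = true ∧
    sameB ([4] ++ [6] ++ hexY ++ subW hexY) [0, 2] = true := by decide +kernel

theorem hex_swap : checkLetters 9 [subW (subW hexY)] = true ∧ sameB (subW (subW hexY)) hexY = true := by
  decide +kernel

theorem lett {w : List Nat} (h : checkLetters 9 [w] = true) : ∀ l ∈ w, l < (Lg).length :=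
  letters_lt (len_Lg ▸ h) w (by simp)

theorem not_of_sameB {u v : List Nat} (hu : checkLetters 9 [u] = true) (hv : checkLetters 9 [v] = true)
    (h : sameB u v = false) : ev Lg u ≠ ev Lg v := by
  intro q
  have hall : sameB u v = true := allList_iff.mpr fun b hb => by
    obtain ⟨c, -, rfl⟩ := List.mem_map.mp hb
    have h1 := matches_ρ.follow_eq u c (lett hu)
    have h2 := matches_ρ.follow_eq v c (lett hv)
    rw [q] at h1
    simp [← h1, ← h2]
  rw [hall] at h
  exact Bool.noConfusion h

theorem twist_ev (w : List Nat) (hw : checkLetters 9 [w] = true) : outer (ev Lg w) = ev Lg (subW w) := by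
  induction w with
  | nil => simp [subW]
  | cons l w ih =>
    have hl : ∀ x ∈ l :: w, x < 9 := fun x hx => len_Lg ▸ lett hw x hx
    have hw' : checkLetters 9 [w] = true := by
      simpa [checkLetters, allList_iff, Nat.ble_eq] using
        fun x hx => Nat.succ_le_of_lt (hl x (List.mem_cons_of_mem _ hx))
    rw [ev_cons, map_mul, ih hw']
    show outer (fl Lg l) * ev Lg (subW w) = ev Lg (imgW.getD l [] ++ subW w)
    rw [ev_append]
    congr 1
    exact twist_fl (hl l (by simp))

theorem exists_witness : ∃ (a b : Cfsg.Spor.Fi22) (x : Fin 4 → Cfsg.Spor.Fi22) (k : Cfsg.Spor.Fi22),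
    a ∈ conjugatesOf Fi22.t ∧ b ∈ conjugatesOf Fi22.t ∧ a ≠ b ∧ Commute a b ∧
      AutWitness (conjugatesOf Fi22.t) a b outer x k := by
  obtain ⟨hcK0, hcK2, hcK4, hKinv⟩ := hex_comm
  have hL : ∀ u ∈ [[0], [2]] ++ hexW, checkLetters 9 [u] = true := by decide +kernel
  have hcomm : ∀ u ∈ [[0], [2]] ++ hexW, ∀ v ∈ [[0], [2]] ++ hexW, Commute (ev Lg u) (ev Lg v) := by
    intro u hu v hv
    have h1 := List.all_eq_true.mp (List.all_eq_true.mp hex_pairwise u hu) v hv
    have h2 := List.all_eq_true.mp (List.all_eq_true.mp hex_pairwise v hv) u hu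
    rw [Bool.and_eq_true] at h1 h2
    show ev Lg u * ev Lg v = ev Lg v * ev Lg u
    rw [← ev_append, ← ev_append]
    exact eq_of_sameB h1.1 h2.1 h1.2
  have hne : ∀ i < 6, ∀ j < 6, i ≠ j →
      ev Lg (([[0], [2]] ++ hexW).getD i []) ≠ ev Lg (([[0], [2]] ++ hexW).getD j []) := by
    intro i hi j hj hij
    have h := List.all_eq_true.mp (List.all_eq_true.mp hex_distinct i (List.mem_range.mpr hi)) j
      (List.mem_range.mpr hj)
    simp only [Bool.or_eq_true, Bool.not_eq_true'] at h
    have hm : ∀ i < 6, ([[0], [2]] ++ hexW).getD i [] ∈ [[0], [2]] ++ hexW := fun i hi => by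
      rw [List.getD_eq_getElem _ _ (show i < ([[0], [2]] ++ hexW).length from hi)]
      exact List.getElem_mem _
    exact not_of_sameB (hL _ (hm i hi)) (hL _ (hm j hj)) (h.resolve_left fun q => hij (Nat.eq_of_beq_eq_true q))
  have hkinv : ev Lg hexK.reverse = (ev Lg hexK)⁻¹ := by
    refine (inv_eq_of_mul_eq_one_right ?_).symm
    rw [← ev_append, ← ev_nil (L := Lg)]
    exact eq_of_sameB (by decide +kernel) (by decide +kernel) hKinv
  have hgen : ∀ l < 9, ev Lg [l] ∈ conjugatesOf Fi22.t := fun l hl => by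
    show IsConj Fi22.t (ev Lg [l])
    have := isConj_fl 1 hl
    rw [show ev Lg [l] = fl Lg l by simp]
    simpa [Fi22.t] using this
  have hY : ev Lg hexY = ev Lg hexK * ev Lg [6] * (ev Lg hexK)⁻¹ := by
    rw [hexY, ev_append, ev_append, hkinv]
  have hpres : ∀ α : MulAut Cfsg.Spor.Fi22, ∀ d ∈ conjugatesOf Fi22.t, α d ∈ conjugatesOf Fi22.t :=
    fun α d hd => (isConj_aut α).trans (α.toMonoidHom.map_isConj hd)
  have hfix : ∀ l < 9, l ≠ 3 → outer (ev Lg [l]) = ev Lg [l] := by
    intro l hl h3
    rw [twist_ev [l] (letters_single hl), subW]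
    interval_cases l <;> first | rfl | exact absurd rfl h3
  let x : Fin 4 → Cfsg.Spor.Fi22 := ![ev Lg [4], ev Lg [6], ev Lg hexY, ev Lg (subW hexY)]
  have hxw : ∀ i : Fin 4, x i = ev Lg (([[0], [2]] ++ hexW).getD (i.val + 2) []) := by
    intro i; fin_cases i <;> rfl
  have hxmem : ∀ i : Fin 4, x i ∈ conjugatesOf Fi22.t := by
    intro i
    fin_cases i
    · exact hgen 4 (by decide)
    · exact hgen 6 (by decide)
    · show ev Lg hexY ∈ _
      rw [hY]
      exact (hgen 6 (by decide)).trans (isConj_iff.mpr ⟨_, rfl⟩)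
    · show ev Lg (subW hexY) ∈ _
      rw [← twist_ev hexY (by decide +kernel), hY]
      exact hpres _ _ ((hgen 6 (by decide)).trans (isConj_iff.mpr ⟨_, rfl⟩))
  have hin : ∀ i < 6, ([[0], [2]] ++ hexW).getD i [] ∈ [[0], [2]] ++ hexW := fun i hi => by
    rw [List.getD_eq_getElem _ _ (show i < ([[0], [2]] ++ hexW).length from hi)]
    exact List.getElem_mem _
  refine ⟨ev Lg [0], ev Lg [2], x, ev Lg hexK, hgen 0 (by decide), hgen 2 (by decide),
    hne 0 (by decide) 1 (by decide) (by decide), hcomm _ (by simp) _ (by simp), ?_⟩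
  refine
    { pres := hpres
      classes := fun α => ?_
      fix_a := hfix 0 (by decide) (by decide)
      fix_b := hfix 2 (by decide) (by decide)
      quad :=
        { mem := fun i => ⟨hxmem i, by rw [hxw]; exact hne _ (by omega) 0 (by decide) (by omega),
            by rw [hxw]; exact hne _ (by omega) 1 (by decide) (by omega),
            by rw [hxw]; exact hcomm _ (hin _ (by omega)) _ (by simp),
            by rw [hxw]; exact hcomm _ (hin _ (by omega)) _ (by simp)⟩
          inj := fun i j h => by
            by_contra hij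
            rw [hxw, hxw] at h
            exact hne _ (by omega) _ (by omega) (fun r => hij (Fin.ext (by omega))) h
          comm := fun i j => by rw [hxw, hxw]; exact hcomm _ (hin _ (by omega)) _ (hin _ (by omega))
          prod := ?_ }
      swap := fun i => ?_
      ka := ?_
      kb := ?_
      kx := ?_
      k12 := hY.symm }
  · rcases two_classes α with ⟨g, hg⟩ | ⟨g, hg⟩
    · exact ⟨g, Or.inl hg.symm⟩
    · exact ⟨g, Or.inr (by rw [show MulAut.conj g = α * outer⁻¹ from hg, inv_mul_cancel_right])⟩
  · show ev Lg [4] * ev Lg [6] * ev Lg hexY * ev Lg (subW hexY) = ev Lg [0] * ev Lg [2]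
    rw [← ev_append, ← ev_append, ← ev_append, ← ev_append]
    exact eq_of_sameB hex_prod.1 (by decide +kernel) hex_prod.2
  · fin_cases i
    · exact hfix 4 (by decide) (by decide)
    · exact hfix 6 (by decide) (by decide)
    · show outer (ev Lg hexY) = ev Lg (subW hexY)
      exact twist_ev _ (by decide +kernel)
    · show outer (ev Lg (subW hexY)) = ev Lg hexY
      rw [twist_ev _ (by decide +kernel)]
      exact eq_of_sameB hex_swap.1 (by decide +kernel) hex_swap.2
  all_goals show _ * _ = _ * _
  · rw [← ev_append, ← ev_append]; exact eq_of_sameB (by decide +kernel) (by decide +kernel) hcK0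
  · rw [← ev_append, ← ev_append]; exact eq_of_sameB (by decide +kernel) (by decide +kernel) hcK2
  · show ev Lg hexK * ev Lg [4] = ev Lg [4] * ev Lg hexK
    rw [← ev_append, ← ev_append]; exact eq_of_sameB (by decide +kernel) (by decide +kernel) hcK4

end CfsgLib.Coset.Fi22Out
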