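import Cfsg.Agent.Coset.TransOut.Aut

/-! Certificates for the automorphisms of the presented group. Generated data. -/

set_option autoImplicit false
set_option maxRecDepth 100000
set_option linter.unusedVariables false

namespace CfsgLib.Coset.Fi22Out

open CfsgLib.Coset.TransOut

def pre4 : List (Nat × Nat × Bool) := [(2, 6, true), (4, 40, false), (1, 2, true), (0, 0, true)]
def gens4 : List (List Nat) := [[4], [6], [3, 4, 2, 3, 7, 8, 1, 2, 3, 7, 4, 3, 2, 1, 0, 1, 2, 3, 4, 7, 3, 2, 1, 8, 7, 3, 2, 4, 3], [7, 3, 4, 2, 3, 7, 8, 1, 2, 3, 7, 4, 3, 2, 1, 0, 1, 2, 3, 4, 7, 3, 2, 1, 8, 7, 3, 2, 4, 3, 7], [3, 7, 5, 2, 3, 4, 1, 2, 3, 7, 6, 5, 4, 3, 2, 1, 0, 1, 2, 3, 4, 5, 6, 7, 3, 2, 1, 4, 3, 2, 5, 7, 3]]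
noncomputable def P4L0 (i : Nat) : Nat := 0x40000060001710000030000060001af0000020000060002220000040000020001230000030000020002210000020000020001f60000040000010001ae0000030000010001720000020000010001da0000010000010000590000040000000001520000030000000001d900000200000000018700000100000000007800000000000000003e000000000000000058
noncomputable def P4T (i : Nat) : Nat := (P4L0 i)
noncomputable def P4 (i : Nat) : Nat := Nat.shiftRight (P4T (Nat.shiftRight i 5)) (Nat.mul 72 (Nat.land i 31))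
noncomputable def Inv4L0 (i : Nat) : Nat := (Bool.rec (motive := fun _ => Nat) (Bool.rec (motive := fun _ => Nat) (Bool.rec (motive := fun _ => Nat) (Bool.rec (motive := fun _ => Nat) 0x0 0x1000000000000000000000000000000000000000000000000000000000000000000000000000000000000000000000000000000000000000000000000000000000000000000000000000000000000000000000000000000000000 (Nat.ble 1 i)) (Bool.rec (motive := fun _ => Nat) 0x6000000000000000000000000000000000000000000000000000000000000000000000000000000000000000000000000000000000000000000000000000000000000000000000000000000 0x2000000000000000000000000000000000000000000000000000000000000000000000000000000000000000000000000000000000000000000000000000000000000000000000000 (Nat.ble 3 i)) (Nat.ble 2 i)) (Bool.rec (motive := fun _ => Nat) (Bool.rec (motive := fun _ => Nat) 0x0 0x0 (Nat.ble 5 i)) (Bool.rec (motive := fun _ => Nat) 0x0 0x0 (Nat.ble 7 i)) (Nat.ble 6 i)) (Nat.ble 4 i)) (Bool.rec (motive := fun _ =>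 Nat) (Bool.rec (motive := fun _ => Nat) (Bool.rec (motive := fun _ => Nat) 0x0 0xc000000000000000000 (Nat.ble 9 i)) (Bool.rec (motive := fun _ => Nat) 0x5000000000000000000000000000000000000000000000000000000000000000000000000000000000000000000000000000000000000 0x800000f000000000000000000000000000000000000000000000000000000000000000000000000000000000000000000000000000000 (Nat.ble 11 i)) (Nat.ble 10 i)) (Bool.rec (motive := fun _ => Nat) (Bool.rec (motive := fun _ => Nat) 0x3000000000000000000000000000000000000000000 0xe000009000000000000000000000000000000000000000000000000000000000000000000000000000000000000 (Nat.ble 13 i)) (Bool.rec (motive := fun _ => Nat) 0x7000004000000000000000000000000000000000000000000000000000000000000000000000000000000000000000000000000000000000000000000000000000000000000000000000000000000 0xa000000000000000000000000000000000000000000000000000000000000000000000000000000000000000000000000000000000000000000000000000000000000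 (Nat.ble 15 i)) (Nat.ble 14 i)) (Nat.ble 12 i)) (Nat.ble 8 i))
noncomputable def Inv4L1 (i : Nat) : Nat := (Bool.rec (motive := fun _ => Nat) (Bool.rec (motive := fun _ => Nat) (Bool.rec (motive := fun _ => Nat) (Bool.rec (motive := fun _ => Nat) 0x0 0xd00000b000000 (Nat.ble 17 i)) (Bool.rec (motive := fun _ => Nat) 0x0 0x0 (Nat.ble 19 i)) (Nat.ble 18 i)) (Bool.rec (motive := fun _ => Nat) (Bool.rec (motive := fun _ => Nat) 0x0 0x0 (Nat.ble 21 i)) (Bool.rec (motive := fun _ => Nat) 0x0 0x0 (Nat.ble 23 i)) (Nat.ble 22 i)) (Nat.ble 20 i)) (Bool.rec (motive := fun _ => Nat) (Bool.rec (motive := fun _ => Nat) (Bool.rec (motive := fun _ => Nat) 0x0 0x0 (Nat.ble 25 i)) (Bool.rec (motive := fun _ => Nat) 0x0 0x0 (Nat.ble 27 i)) (Nat.ble 26 i)) (Bool.rec (motive := fun _ => Nat) (Bool.rec (motive := fun _ => Nat) 0x0 0x0 (Nat.ble 29 i)) (Bool.rec (motive := fun _ => Nat) 0x0 0x0 (Nat.ble 31 i)) (Nat.ble 30 i)) (Nat.ble 28 i)) (Nat.ble 24 i))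
noncomputable def Inv4L2 (i : Nat) : Nat := (Bool.rec (motive := fun _ => Nat) (Bool.rec (motive := fun _ => Nat) (Bool.rec (motive := fun _ => Nat) (Bool.rec (motive := fun _ => Nat) 0x0 0x0 (Nat.ble 33 i)) (Bool.rec (motive := fun _ => Nat) 0x0 0x0 (Nat.ble 35 i)) (Nat.ble 34 i)) (Bool.rec (motive := fun _ => Nat) (Bool.rec (motive := fun _ => Nat) 0x0 0x0 (Nat.ble 37 i)) (Bool.rec (motive := fun _ => Nat) 0x0 0x0 (Nat.ble 39 i)) (Nat.ble 38 i)) (Nat.ble 36 i)) (Bool.rec (motive := fun _ => Nat) (Bool.rec (motive := fun _ => Nat) (Bool.rec (motive := fun _ => Nat) 0x0 0x0 (Nat.ble 41 i)) (Bool.rec (motive := fun _ => Nat) 0x0 0x0 (Nat.ble 43 i)) (Nat.ble 42 i)) (Bool.rec (motive := fun _ => Nat) (Bool.rec (motive := fun _ => Nat) 0x0 0x0 (Nat.ble 45 i)) (Bool.rec (motive := fun _ => Nat) 0x0 0x0 (Nat.ble 47 i)) (Nat.ble 46 i)) (Nat.ble 44 i)) (Nat.ble 40 i))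
noncomputable def Inv4L3 (i : Nat) : Nat := (Bool.rec (motive := fun _ => Nat) (Bool.rec (motive := fun _ => Nat) (Bool.rec (motive := fun _ => Nat) (Bool.rec (motive := fun _ => Nat) 0x0 0x0 (Nat.ble 49 i)) (Bool.rec (motive := fun _ => Nat) 0x0 0x0 (Nat.ble 51 i)) (Nat.ble 50 i)) (Bool.rec (motive := fun _ => Nat) (Bool.rec (motive := fun _ => Nat) 0x0 0x0 (Nat.ble 53 i)) (Bool.rec (motive := fun _ => Nat) 0x0 0x0 (Nat.ble 55 i)) (Nat.ble 54 i)) (Nat.ble 52 i)) (Bool.rec (motive := fun _ => Nat) (Bool.rec (motive := fun _ => Nat) (Bool.rec (motive := fun _ => Nat) 0x0 0x0 (Nat.ble 57 i)) (Bool.rec (motive := fun _ => Nat) 0x0 0x0 (Nat.ble 59 i)) (Nat.ble 58 i)) (Bool.rec (motive := fun _ => Nat) (Bool.rec (motive := fun _ => Nat) 0x0 0x0 (Nat.ble 61 i)) (Bool.rec (motive := fun _ => Nat) 0x0 0x0 (Nat.ble 63 i)) (Nat.ble 62 i)) (Nat.ble 60 i)) (Nat.ble 56 i))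
noncomputable def Inv4L4 (i : Nat) : Nat := (Bool.rec (motive := fun _ => Nat) (Bool.rec (motive := fun _ => Nat) (Bool.rec (motive := fun _ => Nat) (Bool.rec (motive := fun _ => Nat) 0x0 0x0 (Nat.ble 65 i)) (Bool.rec (motive := fun _ => Nat) 0x0 0x0 (Nat.ble 67 i)) (Nat.ble 66 i)) (Bool.rec (motive := fun _ => Nat) (Bool.rec (motive := fun _ => Nat) 0x0 0x0 (Nat.ble 69 i)) (Bool.rec (motive := fun _ => Nat) 0x0 0x0 (Nat.ble 71 i)) (Nat.ble 70 i)) (Nat.ble 68 i)) (Bool.rec (motive := fun _ => Nat) (Bool.rec (motive := fun _ => Nat) (Bool.rec (motive := fun _ => Nat) 0x0 0x0 (Nat.ble 73 i)) (Bool.rec (motive := fun _ => Nat) 0x0 0x0 (Nat.ble 75 i)) (Nat.ble 74 i)) (Bool.rec (motive := fun _ => Nat) (Bool.rec (motive := fun _ => Nat) 0x0 0x0 (Nat.ble 77 i)) (Bool.rec (motive := fun _ => Nat) 0x0 0x0 (Nat.ble 79 i)) (Nat.ble 78 i)) (Nat.ble 76 i)) (Nat.ble 72 i))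
noncomputable def Inv4L5 (i : Nat) : Nat := (Bool.rec (motive := fun _ => Nat) (Bool.rec (motive := fun _ => Nat) (Bool.rec (motive := fun _ => Nat) (Bool.rec (motive := fun _ => Nat) 0x0 0x0 (Nat.ble 81 i)) (Bool.rec (motive := fun _ => Nat) 0x0 0x0 (Nat.ble 83 i)) (Nat.ble 82 i)) (Bool.rec (motive := fun _ => Nat) (Bool.rec (motive := fun _ => Nat) 0x0 0x0 (Nat.ble 85 i)) (Bool.rec (motive := fun _ => Nat) 0x0 0x0 (Nat.ble 87 i)) (Nat.ble 86 i)) (Nat.ble 84 i)) (Bool.rec (motive := fun _ => Nat) (Bool.rec (motive := fun _ => Nat) (Bool.rec (motive := fun _ => Nat) 0x0 0x0 (Nat.ble 89 i)) (Bool.rec (motive := fun _ => Nat) 0x0 0x0 (Nat.ble 91 i)) (Nat.ble 90 i)) (Bool.rec (motive := fun _ => Nat) (Bool.rec (motive := fun _ => Nat) 0x0 0x0 (Nat.ble 93 i)) (Bool.rec (motive := fun _ => Nat) 0x0 0x0 (Nat.ble 95 i)) (Nat.ble 94 i)) (Nat.ble 92 i)) (Nat.ble 88 i))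
noncomputable def Inv4L6 (i : Nat) : Nat := (Bool.rec (motive := fun _ => Nat) (Bool.rec (motive := fun _ => Nat) (Bool.rec (motive := fun _ => Nat) 0x0 (Bool.rec (motive := fun _ => Nat) 0x0 0x0 (Nat.ble 98 i)) (Nat.ble 97 i)) (Bool.rec (motive := fun _ => Nat) (Bool.rec (motive := fun _ => Nat) 0x0 0x0 (Nat.ble 100 i)) (Bool.rec (motive := fun _ => Nat) 0x0 0x0 (Nat.ble 102 i)) (Nat.ble 101 i)) (Nat.ble 99 i)) (Bool.rec (motive := fun _ => Nat) (Bool.rec (motive := fun _ => Nat) 0x0 (Bool.rec (motive := fun _ => Nat) 0x0 0x0 (Nat.ble 105 i)) (Nat.ble 104 i)) (Bool.rec (motive := fun _ => Nat) (Bool.rec (motive := fun _ => Nat) 0x0 0x0 (Nat.ble 107 i)) (Bool.rec (motive := fun _ => Nat) 0x0 0x0 (Nat.ble 109 i)) (Nat.ble 108 i)) (Nat.ble 106 i)) (Nat.ble 103 i))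
noncomputable def Inv4T (i : Nat) : Nat := (Bool.rec (motive := fun _ => Nat) (Bool.rec (motive := fun _ => Nat) (Inv4L0 i) (Bool.rec (motive := fun _ => Nat) (Inv4L1 i) (Inv4L2 i) (Nat.ble 32 i)) (Nat.ble 16 i)) (Bool.rec (motive := fun _ => Nat) (Bool.rec (motive := fun _ => Nat) (Inv4L3 i) (Inv4L4 i) (Nat.ble 64 i)) (Bool.rec (motive := fun _ => Nat) (Inv4L5 i) (Inv4L6 i) (Nat.ble 96 i)) (Nat.ble 80 i)) (Nat.ble 48 i))
noncomputable def Inv4 (i : Nat) : Nat := Nat.shiftRight (Inv4T (Nat.shiftRight i 5)) (Nat.mul 24 (Nat.land i 31))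

end CfsgLib.Coset.Fi22Out
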