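import Cfsg.Agent.Coset.TransOut.Aut

/-! Certificates for the automorphisms of the presented group. Generated data. -/

set_option autoImplicit false
set_option maxRecDepth 100000
set_option linter.unusedVariables false

namespace CfsgLib.Coset.Fi22Out

open CfsgLib.Coset.TransOut

def pre8 : List (Nat × Nat × Bool) := [(2, 6, false), (4, 40, false), (1, 2, true), (0, 0, true), (5, 88, true), (7, 43, false), (8, 92, true), (6, 154, true)]
def lastC : List Nat := [16, 827]

end CfsgLib.Coset.Fi22Out
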